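import Groth.Agent.Lib.ExchangeFP29.Nil.Sect
import Mathlib.Topology.KrullDimension
import Mathlib.Topology.Sober

/-!
# `D + 1` classes `[M] - 1` of lines multiply to zero on an ample scheme of dimension `D`
-/

set_option autoImplicit false
set_option linter.style.haveILetI false
set_option linter.unusedSectionVars false
universe u v

open CategoryTheory CategoryTheory.Limits AlgebraicGeometry TopologicalSpace

noncomputable section

namespace Groth.Agent.Lib.ExchangeFP29.Nil

open Groth.Agent Groth.Agent.Lib TensorMod.Basic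

attribute [local instance] HasDerivedCategory.standard

variable {X : Scheme.{u}}

/-- The irreducible closed set of a point. -/
def pt (x : X) : IrreducibleCloseds X :=
  ⟨closure {x}, isIrreducible_singleton.closure, isClosed_closure⟩

/-- The dimension of the closure of a point. -/
def ht (x : X) : ℕ∞ := Order.height (pt x)

theorem ht_le {D : ℕ} (hD : topologicalKrullDim ↥X ≤ (D : WithBot ℕ∞)) (x : X) : ht x ≤ D :=
  WithBot.coe_le_coe.1 ((Order.height_le_krullDim (pt x)).trans hD)

theorem ht_lt {D : ℕ} (hD : topologicalKrullDim ↥X ≤ (D : WithBot ℕ∞)) {η z : X} (h : η ⤳ z)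
    (hne : z ≠ η) : ht z < ht η := by
  have hle : pt z ≤ pt η := specializes_iff_closure_subset.1 h
  have hlt : pt z < pt η := hle.lt_of_not_ge fun h' =>
    hne ((specializes_iff_closure_subset.2 h' : z ⤳ η).antisymm h).eq
  exact Order.height_strictMono hlt ((ht_le hD z).trans_lt (WithTop.coe_lt_top D))

/-- Finitely many points of a closed set specialize to all of it. -/
theorem exists_generic [IsNoetherian X] {Z : Set X} (hZ : IsClosed Z) :
    ∃ S : Set X, S.Finite ∧ ∀ z ∈ Z, ∃ η ∈ S, η ∈ Z ∧ η ⤳ z := by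
  obtain ⟨T, hT, hTc, hTi, rfl⟩ := NoetherianSpace.exists_finite_set_isClosed_irreducible hZ
  haveI : Finite T := hT
  refine ⟨Set.range fun t : T => (hTi t.1 t.2).genericPoint, Set.finite_range _, fun z hz => ?_⟩
  obtain ⟨t, ht, hzt⟩ := hz
  have hcl : closure ({(hTi t ht).genericPoint} : Set X) = t := by
    rw [(hTi t ht).isGenericPoint_genericPoint_closure.def, (hTc t ht).closure_eq]
  refine ⟨_, ⟨⟨t, ht⟩, rfl⟩, ⟨t, ht, ?_⟩, specializes_iff_mem_closure.2 (hcl.ge hzt)⟩
  exact hcl.le (subset_closure (Set.mem_singleton _))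

variable {K : Type v} [CommRing K] [LambdaRing.LambdaOps K] {φ : SGA6.Kvb X →+ K}

/-- The main induction: `n` more lines finish a system of sections whose zeros have height `< n`. -/
theorem prod_mul_eq_zero [IsNoetherian X] [Nonempty ↥X] (hK : PBK.Koszul.IsLam X K φ) {L : X.Modules}
    (hL : CohB1.IsAmple L) {D : ℕ} (hD : topologicalKrullDim ↥X ≤ (D : WithBot ℕ∞)) :
    ∀ (rest : List X.Modules), (∀ M ∈ rest, PicF.IsInvertible M) → ∀ pre : List (Sec X),
      (∀ z ∈ zeros pre, ht z < (rest.length : ℕ∞)) →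
      (pre.map fun σ => φ (KRR.cl X σ.M) - 1).prod * (rest.map fun M => φ (KRR.cl X M) - 1).prod = 0
  | [], _, pre, hpre => by
    rw [prod_eq_zero hK pre (Set.eq_empty_iff_forall_notMem.2 fun z hz => absurd (hpre z hz) (by simp)),
      zero_mul]
  | M :: rest, hinv, pre, hpre => by
    haveI : QuasiSeparatedSpace X := inferInstance
    obtain ⟨S, hS, hgen⟩ := exists_generic (isClosed_zeros pre)
    have hM : PicF.IsInvertible M := hinv M (List.mem_cons.2 (Or.inl rfl))
    have hO : PicF.IsInvertible (Coh.structureModule X) := PicLoc.isInvertible_structureModule X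
    have hLi : PicF.IsInvertible L := hL.1
    obtain ⟨n₁, hn₁⟩ := exists_twist_section hL hS hM
    obtain ⟨n₂, hn₂⟩ := exists_twist_section hL hS hO
    obtain ⟨s₁, hs₁⟩ := hn₁ (max n₁ n₂) (le_max_left _ _)
    obtain ⟨s₂, hs₂⟩ := hn₂ (max n₁ n₂) (le_max_right _ _)
    let N := CohB1.tensorPow L (max n₁ n₂)
    have hNi : PicF.IsInvertible N := TensorMod.Invertible.isInvertible_tensorPow hLi _
    let σ₁ : Sec X := ⟨_, TensorMod.Invertible.isInvertible_tensorMod hM hNi, s₁⟩
    let σ₂ : Sec X := ⟨_, TensorMod.Invertible.isInvertible_tensorMod hO hNi, s₂⟩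
    have hstep : ∀ σ : Sec X, S ⊆ CohB1.genLocus σ.M σ.s →
        (pre.map fun σ => φ (KRR.cl X σ.M) - 1).prod * (φ (KRR.cl X σ.M) - 1) *
          (rest.map fun M => φ (KRR.cl X M) - 1).prod = 0 := by
      intro σ hσ
      have h := prod_mul_eq_zero hK hL hD rest (fun M hM => hinv M (List.mem_cons.2 (Or.inr hM)))
        (σ :: pre) fun z hz => ?_
      · rw [List.map_cons, List.prod_cons] at h
        linear_combination h
      · have hz' : z ∈ zeros pre := fun τ hτ => hz τ (List.mem_cons.2 (Or.inr hτ))
        obtain ⟨η, hη, hηZ, hηz⟩ := hgen z hz'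
        have hne : z ≠ η := fun h => hz σ (List.mem_cons.2 (Or.inl rfl)) (h.symm ▸ hσ hη)
        have h1 := hpre η hηZ
        rw [List.length_cons, Nat.cast_succ] at h1
        exact (ht_lt hD hηz hne).trans_le (Order.le_of_lt_add_one h1)
    have hMf := TensorMod.LocFree.of_rank (TensorMod.LocFree.of_isInvertible hM)
    have hNf := TensorMod.LocFree.of_rank (TensorMod.LocFree.of_isInvertible hNi)
    have e1 : φ (KRR.cl X σ₁.M) = φ (KRR.cl X M) * φ (KRR.cl X N) := (hK.map_mul M N hMf hNf).symm
    have e2 : φ (KRR.cl X σ₂.M) = φ (KRR.cl X N) := by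
      rw [← one_mul (φ (KRR.cl X N)), ← hK.map_one]
      exact (hK.map_mul _ N ExtFilt.Lambda.isFinLocFree_structure hNf).symm
    obtain ⟨N', hN', ⟨c⟩⟩ := TensorMod.Invertible.exists_inverse hNi
    have hN'f := TensorMod.LocFree.of_rank (TensorMod.LocFree.of_isInvertible hN')
    have hNN : φ (KRR.cl X N) * φ (KRR.cl X N') = 1 := by
      rw [hK.map_mul _ _ hNf hN'f, ← hK.map_one]
      exact congrArg φ (KAugNil98.Main.cl_iso c (TensorMod.LocFree.isFinLocFree_tensorMod hNf hN'f))
    have h1 := hstep σ₁ hs₁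
    have h2 := hstep σ₂ hs₂
    rw [e1] at h1
    rw [e2] at h2
    rw [List.map_cons, List.prod_cons]
    linear_combination φ (KRR.cl X N') * h1 - φ (KRR.cl X N') * h2 -
      ((pre.map fun σ => φ (KRR.cl X σ.M) - 1).prod * (φ (KRR.cl X M) - 1) *
        (rest.map fun M => φ (KRR.cl X M) - 1).prod) * hNN

variable (φ) in
/-- The ideal of the `[M] - 1`, `M` a line. -/
def lineIdeal : Ideal K :=
  Ideal.span {y | ∃ M : X.Modules, PicF.IsInvertible M ∧ y = φ (KRR.cl X M) - 1}

/-- `D + 1` elements of the line ideal multiply to zero. -/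
theorem lineIdeal_pow_eq_bot [IsNoetherian X] [Nonempty ↥X] (hK : PBK.Koszul.IsLam X K φ) {L : X.Modules}
    (hL : CohB1.IsAmple L) {D : ℕ} (hD : topologicalKrullDim ↥X ≤ (D : WithBot ℕ∞)) :
    lineIdeal φ ^ (D + 1) = ⊥ := by
  suffices key : ∀ n, ∀ x ∈ lineIdeal φ ^ n, ∀ l : List X.Modules, (∀ M ∈ l, PicF.IsInvertible M) →
      D + 1 ≤ l.length + n → (l.map fun M => φ (KRR.cl X M) - 1).prod * x = 0 by
    refine (Submodule.eq_bot_iff _).2 fun x hx => ?_
    simpa using key (D + 1) x hx [] (fun M hM => by simp at hM) (by simp)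
  intro n
  induction n with
  | zero =>
    intro x _ l hl hlen
    have h := prod_mul_eq_zero hK hL hD l hl [] fun z _ =>
      (ht_le hD z).trans_lt (by exact_mod_cast (show D < l.length by omega))
    rw [List.map_nil, List.prod_nil, one_mul] at h
    rw [h, zero_mul]
  | succ n ih =>
    intro x hx l hl hlen
    rw [pow_succ] at hx
    induction hx using Submodule.mul_induction_on' with
    | mem_mul_mem y hy z hz =>
      induction hz using Submodule.span_induction with
      | mem z hz =>
        obtain ⟨M, hM, rfl⟩ := hz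
        have h := ih y hy (M :: l) (fun N hN => by
          rcases List.mem_cons.1 hN with rfl | hN
          · exact hM
          · exact hl N hN) (by rw [List.length_cons]; omega)
        rw [List.map_cons, List.prod_cons] at h
        linear_combination h
      | zero => rw [mul_zero, mul_zero]
      | add a b _ _ ha hb => rw [mul_add, mul_add, ha, hb, add_zero]
      | smul c a _ ha =>
        rw [smul_eq_mul, mul_left_comm y, mul_left_comm]
        rw [ha, mul_zero]
    | add a _ b _ ha hb => rw [mul_add, ha, hb, add_zero]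

end Groth.Agent.Lib.ExchangeFP29.Nil
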