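import Groth.Agent.Lib.Ample.GG
import Groth.Agent.Lib.Ample.Basis
import Groth.Agent.Lib.H15.RHomRes.Proj
import Groth.Agent.Lib.Kaehler.Chart
import Groth.Agent.Lib.KAugNil98.Main
import Groth.Agent.Lib.ExchangeFP29.PBK.Koszul

/-!
# Sections avoiding finitely many points, and products of line classes
-/

set_option autoImplicit false
set_option linter.style.haveILetI false
set_option linter.unusedSectionVars false
universe u v

open CategoryTheory CategoryTheory.Limits AlgebraicGeometry TopologicalSpace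

noncomputable section

namespace Groth.Agent.Lib.ExchangeFP29.Nil

open Groth.Agent Groth.Agent.Lib TensorMod.Basic Ample Ample.GenLocus

attribute [local instance] HasDerivedCategory.standard

variable {X : Scheme.{u}}

/-- Twists of a line have sections vanishing at no point of a given finite set. -/
theorem exists_twist_section [QuasiSeparatedSpace X] {L : X.Modules} (hL : CohB1.IsAmple L)
    {S : Set X} (hS : S.Finite) {M : X.Modules} (hM : PicF.IsInvertible M) :
    ∃ n₀ : ℕ, ∀ n, n₀ ≤ n → ∃ s : Coh.structureModule X ⟶ CohB1.tensorMod M (CohB1.tensorPow L n),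
      S ⊆ CohB1.genLocus _ s := by
  classical
  obtain ⟨hi, -, -⟩ := Pow.isAmple_iff.1 hL
  let Z₀ : Set X := {z ∈ S | ∀ z' ∈ S, z ⤳ z' → z' = z}
  have hmin : ∀ z ∈ S, ∃ z' ∈ Z₀, z ⤳ z' := by
    intro z hz
    obtain ⟨z', ⟨hz', hzz'⟩, hmax⟩ := (hS.subset (Set.sep_subset S (z ⤳ ·))).exists_minimalFor
      (fun w => closure ({w} : Set X)) {w ∈ S | z ⤳ w} ⟨z, hz, specializes_rfl⟩
    refine ⟨z', ⟨hz', fun w hw hzw => ?_⟩, hzz'⟩
    have h1 : closure ({w} : Set X) ⊆ closure {z'} := specializes_iff_closure_subset.1 hzw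
    have h2 := hmax ⟨hw, hzz'.trans hzw⟩ h1
    exact (Inseparable.eq ((specializes_iff_closure_subset.2 h2).antisymm hzw))
  haveI : Fintype Z₀ := (hS.subset (Set.sep_subset _ _)).fintype
  have hsel : ∀ z : Z₀, ∃ n : ℕ, 0 < n ∧ ∃ s : Coh.structureModule X ⟶ CohB1.tensorPow L n,
      (z : X) ∈ CohB1.genLocus _ s ∧ ∀ z' : Z₀, z' ≠ z → (z' : X) ∉ CohB1.genLocus _ s := by
    intro z
    let C : Set X := ⋃ z' : {z' : Z₀ // z' ≠ z}, closure {(z'.1 : X)}
    have hC : IsClosed C := isClosed_iUnion_of_finite fun _ => isClosed_closure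
    have hzC : (z : X) ∉ C := fun h => by
      obtain ⟨⟨z', hne⟩, hz'⟩ := Set.mem_iUnion.1 h
      exact hne (Subtype.ext ((z'.2.2 z z.2.1 (specializes_iff_mem_closure.2 hz')).symm))
    obtain ⟨n, hn, s, hzs, hsU, -⟩ := Basis.exists_locus_subset hL (U := ⟨Cᶜ, hC.isOpen_compl⟩)
      (x := (z : X)) hzC
    exact ⟨n, hn, s, hzs, fun z' hne hz' =>
      (hsU hz') (Set.mem_iUnion.2 ⟨⟨z', hne⟩, subset_closure rfl⟩)⟩
  choose n hn s hzs hoth using hsel
  let K := ∏ z, n z
  let k : Z₀ → ℕ := fun z => ∏ w ∈ Finset.univ.erase z, n w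
  have hnk : ∀ z, n z * k z = K := fun z => Finset.mul_prod_erase _ _ (Finset.mem_univ z)
  let σ : Z₀ → (Coh.structureModule X ⟶ CohB1.tensorPow L K) := fun z =>
    SecTwist.powHom (s z) (k z) ≫ (Pow.powMul L (n z) (k z) ≪≫ Pow.powCongr L (hnk z)).hom
  have hσ : ∀ z, CohB1.genLocus _ (σ z) = CohB1.genLocus _ (s z) := fun z => by
    rw [genLocus_comp_iso, genLocus_powHom (TensorMod.Invertible.isInvertible_tensorPow hi _) _ _
      (Finset.prod_pos fun w _ => hn w)]
  obtain ⟨m₀, hm₀⟩ := GG.eventually_genAt_twist hL M (GG.isCoh_of_isInvertible hM)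
  refine ⟨m₀ + K, fun N hN => ?_⟩
  obtain ⟨m, rfl⟩ := Nat.exists_eq_add_of_le (show K ≤ N by omega)
  have hMm := TensorMod.Invertible.isInvertible_tensorMod hM
    (TensorMod.Invertible.isInvertible_tensorPow hi m)
  choose v hv using fun z : Z₀ => GG.exists_genLocus_of_genAt hMm (hm₀ m (by omega) (z : X))
  let e : CohB1.tensorMod (CohB1.tensorPow L K) (CohB1.tensorMod M (CohB1.tensorPow L m)) ≅
      CohB1.tensorMod M (CohB1.tensorPow L (K + m)) :=
    (assoc _ _ _).symm ≪≫ tensorIso (comm _ _) (Iso.refl _) ≪≫ assoc _ _ _ ≪≫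
      tensorIso (Iso.refl _) (Pow.powAdd L K m).symm
  let τ : Z₀ → (Coh.structureModule X ⟶ CohB1.tensorMod M (CohB1.tensorPow L (K + m))) := fun z =>
    SecTwist.tmulHom (σ z) (v z) ≫ e.hom
  have hτ : ∀ z, CohB1.genLocus _ (τ z) = CohB1.genLocus _ (s z) ⊓ CohB1.genLocus _ (v z) := fun z => by
    rw [genLocus_comp_iso, genLocus_tmulHom (TensorMod.Invertible.isInvertible_tensorPow hi K) hMm, hσ]
  refine ⟨∑ z, τ z, fun z hz => ?_⟩
  obtain ⟨z', hz', hzz'⟩ := hmin z hz
  refine hzz'.mem_open (CohB1.genLocus _ _).isOpen (Basis.mem_genLocus_sum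
    (TensorMod.Invertible.isInvertible_tensorMod hM (TensorMod.Invertible.isInvertible_tensorPow hi _))
    _ τ (Finset.mem_univ ⟨z', hz'⟩) ?_ fun w _ hne h => ?_)
  · rw [hτ]
    exact ⟨hzs ⟨z', hz'⟩, hv ⟨z', hz'⟩⟩
  · rw [hτ] at h
    exact hoth w ⟨z', hz'⟩ hne.symm h.1

/-- A line with a section. -/
structure Sec (X : Scheme.{u}) where
  /-- the line -/
  M : X.Modules
  inv : PicF.IsInvertible M
  /-- the section -/
  s : Coh.structureModule X ⟶ M

/-- The common zeros of some sections. -/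
def zeros (l : List (Sec X)) : Set X := {x | ∀ σ ∈ l, x ∉ CohB1.genLocus σ.M σ.s}

theorem isClosed_zeros (l : List (Sec X)) : IsClosed (zeros l) := by
  have : zeros l = ⋂ σ ∈ l, ((CohB1.genLocus σ.M σ.s : Set X))ᶜ := by
    ext x; simp [zeros]
  rw [this]
  exact isClosed_biInter fun σ _ => (CohB1.genLocus σ.M σ.s).isOpen.isClosed_compl

section Classes

variable {K : Type v} [CommRing K] [LambdaRing.LambdaOps K]

/-- `∑_{i ≤ r} (-1)^i λ^i x`. -/
def alt (r : ℕ) (x : K) : K := ∑ i ∈ Finset.range (r + 1), (-1 : K) ^ i * LambdaRing.LambdaOps.lam i x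

theorem alt_add_line {r : ℕ} {e v : K} (he : ∀ i, r < i → LambdaRing.LambdaOps.lam i e = 0)
    (hv : ∀ i, 1 < i → LambdaRing.LambdaOps.lam i v = 0) : alt (r + 1) (e + v) = alt r e * (1 - v) := by
  have hstep : ∀ i, LambdaRing.LambdaOps.lam (i + 1) (e + v) =
      LambdaRing.LambdaOps.lam (i + 1) e + v * LambdaRing.LambdaOps.lam i e := fun i => by
    rw [LambdaRing.LambdaOps.lam_add, Finset.sum_range_succ, Finset.sum_range_succ,
      Finset.sum_eq_zero fun j hj => ?_]
    · rw [show i + 1 - i = 1 by omega, Nat.sub_self, LambdaRing.LambdaOps.lam_zero,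
        LambdaRing.LambdaOps.lam_one]
      ring
    · rw [hv _ (by have := Finset.mem_range.1 hj; omega), mul_zero]
  simp only [alt]
  rw [Finset.sum_range_succ' _ (r + 1), LambdaRing.LambdaOps.lam_zero, pow_zero, mul_one]
  simp only [hstep, mul_add, Finset.sum_add_distrib]
  have h1 : ∑ i ∈ Finset.range (r + 1), (-1 : K) ^ (i + 1) * LambdaRing.LambdaOps.lam (i + 1) e + 1 =
      ∑ i ∈ Finset.range (r + 1), (-1 : K) ^ i * LambdaRing.LambdaOps.lam i e := by
    have h := Finset.sum_range_succ' (fun i => (-1 : K) ^ i * LambdaRing.LambdaOps.lam i e) (r + 1)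
    rw [Finset.sum_range_succ, he (r + 1) (Nat.lt_succ_self r), mul_zero, add_zero] at h
    simp only [pow_zero, one_mul, LambdaRing.LambdaOps.lam_zero] at h
    exact h.symm
  have h2 : ∑ i ∈ Finset.range (r + 1), (-1 : K) ^ (i + 1) * (v * LambdaRing.LambdaOps.lam i e) =
      -(v * ∑ i ∈ Finset.range (r + 1), (-1 : K) ^ i * LambdaRing.LambdaOps.lam i e) := by
    rw [Finset.mul_sum, ← Finset.sum_neg_distrib]
    exact Finset.sum_congr rfl fun i _ => by ring
  rw [add_right_comm, h1, h2]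
  ring

variable {φ : SGA6.Kvb X →+ K} (hK : PBK.Koszul.IsLam X K φ)

include hK in
theorem lam_eq_zero_of_rank {r : ℕ} {E : X.Modules} (hE : FlatMod.IsFinLocFreeOfRank r E) (i : ℕ)
    (hi : r < i) : LambdaRing.LambdaOps.lam i (φ (KRR.cl X E)) = 0 := by
  have hEf := TensorMod.LocFree.of_rank hE
  obtain ⟨L, hLB, hL⟩ := PBK.Koszul.exists_extPow hEf i
  have h := KVec.ExtRank.rank_extPow hE hL
  rw [Nat.choose_eq_zero_of_lt hi] at h
  rw [hK.map_lam i E L hEf hLB hL, KAugNil98.Main.cl_isZero (Cyc.CH.isZero_of_rank_zero h), map_zero]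

/-- A bundle mapping to `O`, onto away from the common zeros. -/
theorem exists_bundle (hK : PBK.Koszul.IsLam X K φ) : ∀ l : List (Sec X),
    ∃ (E : X.Modules) (a : E ⟶ Coh.structureModule X) (v : List K),
      FlatMod.IsFinLocFreeOfRank l.length E ∧ alt l.length (φ (KRR.cl X E)) = (v.map fun w => 1 - w).prod ∧
      v.prod * (l.map fun σ => φ (KRR.cl X σ.M)).prod = 1 ∧
      (l.map fun σ => φ (KRR.cl X σ.M) - 1).prod =
        (l.map fun σ => φ (KRR.cl X σ.M)).prod * (v.map fun w => 1 - w).prod ∧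
      ∀ x, x ∉ zeros l → ∃ U : X.Opens, x ∈ U ∧ Epi ((Scheme.Modules.pullback U.ι).map a)
  | [] => by
    refine ⟨FlatMod.freeMod X 0, 0, [], TensorMod.LocFree.isFinLocFree_freeMod X 0, ?_, by simp, by simp,
      fun x hx => absurd (fun σ hσ => by simp at hσ) hx⟩
    simp [alt, LambdaRing.LambdaOps.lam_zero]
  | σ :: l => by
    obtain ⟨E, a, v, hE, halt, hv, hprod, hepi⟩ := exists_bundle hK l
    obtain ⟨N, hN, ⟨c⟩⟩ := TensorMod.Invertible.exists_inverse σ.inv
    have hN1 : FlatMod.IsFinLocFreeOfRank 1 N := TensorMod.LocFree.of_isInvertible hN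
    have hNf := TensorMod.LocFree.of_rank hN1
    have hEf := TensorMod.LocFree.of_rank hE
    have hMf := TensorMod.LocFree.of_rank (TensorMod.LocFree.of_isInvertible σ.inv)
    let b : N ⟶ Coh.structureModule X := (leftUnit N).inv ≫ tmap σ.s (𝟙 N) ≫ c.hom
    obtain ⟨hbi, hcl, hrk⟩ := KVec.Model.cl_biprod hEf hNf
    have hrank : FlatMod.IsFinLocFreeOfRank (l.length + 1) (E ⊞ N) := PBK.Koszul.of_rk hbi fun y => by
      rw [hrk y, KVec.Model.rk_of_rank hE, KVec.Model.rk_of_rank hN1]
    refine ⟨E ⊞ N, biprod.desc a b, φ (KRR.cl X N) :: v, hrank, ?_, ?_, ?_, fun x hx => ?_⟩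
    · rw [List.length_cons, hcl, map_add, alt_add_line (lam_eq_zero_of_rank hK hE)
        (lam_eq_zero_of_rank hK hN1), halt, List.map_cons, List.prod_cons, mul_comm]
    · have hMN : φ (KRR.cl X σ.M) * φ (KRR.cl X N) = 1 := by
        rw [hK.map_mul _ _ hMf hNf, ← hK.map_one]
        exact congrArg φ (KAugNil98.Main.cl_iso c (TensorMod.LocFree.isFinLocFree_tensorMod hMf hNf))
      rw [List.map_cons, List.prod_cons, List.prod_cons]
      linear_combination (φ (KRR.cl X σ.M) * φ (KRR.cl X N)) * hv + hMN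
    · have hMN : φ (KRR.cl X σ.M) * φ (KRR.cl X N) = 1 := by
        rw [hK.map_mul _ _ hMf hNf, ← hK.map_one]
        exact congrArg φ (KAugNil98.Main.cl_iso c (TensorMod.LocFree.isFinLocFree_tensorMod hMf hNf))
      simp only [List.map_cons, List.prod_cons, hprod]
      linear_combination ((l.map fun σ => φ (KRR.cl X σ.M)).prod * (v.map fun w => 1 - w).prod) * hMN
    · by_cases hσ : x ∈ CohB1.genLocus σ.M σ.s
      · obtain ⟨U, hxU, hU⟩ := (mem_genLocus_iff σ.s).1 hσ
        refine ⟨U, hxU, ?_⟩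
        haveI : IsIso ((Scheme.Modules.restrictFunctor U.ι).map σ.s) := (isIso_restrict_iff σ.s U).2 hU
        haveI : IsIso ((Scheme.Modules.restrictFunctor U.ι).map (tmap σ.s (𝟙 N))) := by
          have h := H15.RHomRes.Proj.restrictTensorIso_natural U.ι σ.s (𝟙 N)
          rw [← IsIso.eq_comp_inv] at h
          rw [h]
          haveI : IsIso (tmap ((Scheme.Modules.restrictFunctor U.ι).map σ.s)
              ((Scheme.Modules.restrictFunctor U.ι).map (𝟙 N))) :=
            (tensorIso (asIso ((Scheme.Modules.restrictFunctor U.ι).map σ.s))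
              (asIso ((Scheme.Modules.restrictFunctor U.ι).map (𝟙 N)))).isIso_hom
          infer_instance
        haveI : IsIso ((Scheme.Modules.pullback U.ι).map (tmap σ.s (𝟙 N))) :=
          (NatIso.isIso_map_iff (Scheme.Modules.restrictFunctorIsoPullback U.ι) _).1 inferInstance
        haveI : IsIso ((Scheme.Modules.pullback U.ι).map b) := by
          simp only [b, Functor.map_comp]
          infer_instance
        have h := (Scheme.Modules.pullback U.ι).map_comp (biprod.inr : N ⟶ E ⊞ N) (biprod.desc a b)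
        rw [biprod.inr_desc] at h
        haveI : Epi ((Scheme.Modules.pullback U.ι).map (biprod.inr : N ⟶ E ⊞ N) ≫
            (Scheme.Modules.pullback U.ι).map (biprod.desc a b)) := by
          rw [← h]; infer_instance
        exact epi_of_epi ((Scheme.Modules.pullback U.ι).map (biprod.inr : N ⟶ E ⊞ N)) _
      · obtain ⟨U, hxU, hU⟩ := hepi x fun hz => hx fun τ hτ => by
          rcases List.mem_cons.1 hτ with rfl | hτ
          · exact hσ
          · exact hz τ hτ
        refine ⟨U, hxU, ?_⟩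
        have h := (Scheme.Modules.pullback U.ι).map_comp (biprod.inl : E ⟶ E ⊞ N) (biprod.desc a b)
        rw [biprod.inl_desc] at h
        haveI : Epi ((Scheme.Modules.pullback U.ι).map (biprod.inl : E ⟶ E ⊞ N) ≫
            (Scheme.Modules.pullback U.ι).map (biprod.desc a b)) := by
          rw [← h]; exact hU
        exact epi_of_epi ((Scheme.Modules.pullback U.ι).map (biprod.inl : E ⟶ E ⊞ N)) _

include hK in
/-- Sections without a common zero kill the product of their `[M] - 1`. -/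
theorem prod_eq_zero [Nonempty ↥X] (l : List (Sec X)) (hl : zeros l = ∅) :
    (l.map fun σ => φ (KRR.cl X σ.M) - 1).prod = 0 := by
  obtain ⟨E, a, v, hE, halt, -, hprod, hepi⟩ := exists_bundle hK l
  have hlen : l ≠ [] := fun h => by
    subst h
    obtain ⟨x⟩ := ‹Nonempty ↥X›
    exact (Set.eq_empty_iff_forall_notMem.1 hl x) (fun σ hσ => by simp at hσ)
  haveI : Epi a := Kaehler.Chart.epi_of_locally a fun x => by
    obtain ⟨U, hxU, hU⟩ := hepi x (Set.eq_empty_iff_forall_notMem.1 hl x)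
    exact ⟨U, U.ι, inferInstance, ⟨x, hxU⟩, rfl, hU⟩
  obtain ⟨n, hn⟩ : ∃ n, l.length = n + 1 := ⟨l.length - 1, by
    have := List.length_pos_iff.2 hlen; omega⟩
  rw [hn] at hE halt
  have hEf := TensorMod.LocFree.of_rank hE
  have hO1 : FlatMod.IsFinLocFreeOfRank 1 (Coh.structureModule X) :=
    TensorMod.LocFree.of_isInvertible SurfInt.H2Vanish.isInvertible_structure
  have hQ := KAugNil98.Main.isFinLocFree_kernel a hEf ExtFilt.Lambda.isFinLocFree_structure
  let S := ShortComplex.mk (kernel.ι a) a (kernel.condition a)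
  have hS : S.ShortExact :=
    ShortComplex.ShortExact.mk' (S.exact_of_f_is_kernel (kernelIsKernel a)) inferInstance inferInstance
  have hQr : FlatMod.IsFinLocFreeOfRank n (kernel a) := PBK.Koszul.of_rk hQ fun y => by
    have h := KVec.Model.rk_add hS hQ hEf ExtFilt.Lambda.isFinLocFree_structure y
    rw [show KVec.Model.rk S.X₂ y = n + 1 from KVec.Model.rk_of_rank hE y,
      show KVec.Model.rk S.X₃ y = 1 from KVec.Model.rk_of_rank hO1 y] at h
    have h' : n + 1 = KVec.Model.rk (kernel a) y + 1 := h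
    omega
  have hsum : φ (KRR.cl X E) = φ (KRR.cl X (kernel a)) + φ (KRR.cl X (Coh.structureModule X)) :=
    (congrArg φ (KAugNil98.Main.clSub_shortExact hS hQ hEf ExtFilt.Lambda.isFinLocFree_structure)).trans
      (map_add φ _ _)
  rw [hprod, ← halt, hsum, alt_add_line (lam_eq_zero_of_rank hK hQr) (lam_eq_zero_of_rank hK hO1),
    hK.map_one, sub_self, mul_zero, mul_zero]

end Classes

end Groth.Agent.Lib.ExchangeFP29.Nil
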