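import Groth.Agent.Lib.ExchangeFP29.Nil.Lines
import Groth.Agent.Lib.ExchangeFP29.PBK.Tower
import Groth.Agent.Lib.AmpleEmb53.Basic
import Groth.Agent.Lib.ProjSpace.Dim

/-!
# `F^(d+1) K(X) = 0` for an ample scheme of dimension `≤ d`
-/

set_option autoImplicit false
set_option linter.style.haveILetI false
set_option linter.unusedSectionVars false
universe u v w

open CategoryTheory CategoryTheory.Limits AlgebraicGeometry TopologicalSpace

noncomputable section

namespace Groth.Agent.Lib.ExchangeFP29.Nil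

open Groth.Agent Groth.Agent.Lib TensorMod.Basic Groth.Agent.Lib.ExchangeFP29.PBK

attribute [local instance] HasDerivedCategory.standard

/-- The dimension of a projective bundle. -/
theorem dim_bundle {X P : Scheme.{u}} [IsNoetherian X] {π : P ⟶ X} {E : X.Modules} {O1 : P.Modules}
    {q : (Scheme.Modules.pullback π).obj E ⟶ O1} {r : ℕ} (hP : KRR.IsProjBundle π E O1 q)
    (hE : FlatMod.IsFinLocFreeOfRank (r + 1) E) {D : ℕ}
    (hD : topologicalKrullDim ↥X ≤ (D : WithBot ℕ∞)) :
    topologicalKrullDim ↥P ≤ ((D + r : ℕ) : WithBot ℕ∞) := by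
  have h : ∀ x : X, ∃ (V : X.Opens) (_ : IsAffineOpen V) (j : CohB1.ProjSpace r Γ(X, V) ⟶ P),
      x ∈ V ∧ IsOpenImmersion j ∧ Set.range j = (π ⁻¹ᵁ V : Set P) := by
    intro x
    obtain ⟨W, hxW, hW⟩ := exists_chart_nhd hP hE x
    obtain ⟨V, hV, hxV, hle⟩ := exists_isAffineOpen_mem_and_subset (X := X) (x := x) (U := W) hxW
    obtain ⟨j, hj, hr, -, -⟩ := hW V hV hle
    exact ⟨V, hV, j, hxV, hj, hr⟩
  choose V hV j hxV hj hr using h
  refine ProjSpace.Dim.topologicalKrullDim_le_of_cover (fun x => (j x : _ → P))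
    (fun x => by haveI := hj x; exact (j x).isOpenEmbedding) (fun p => ?_) fun x => ?_
  · obtain ⟨y, hy⟩ := (hr (π p)).ge (show p ∈ π ⁻¹ᵁ V (π p) from hxV (π p))
    exact ⟨π p, y, hy⟩
  · haveI : IsNoetherianRing Γ(X, V x) := IsLocallyNoetherian.component_noetherian ⟨V x, hV x⟩
    rw [ProjSpace.Dim.topologicalKrullDim_projSpace, Nat.cast_add]
    refine add_le_add ?_ le_rfl
    rw [← PrimeSpectrum.topologicalKrullDim_eq_ringKrullDim]
    exact ((hV x).fromSpec.isOpenEmbedding.isInducing.topologicalKrullDim_le).trans hD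

theorem line_pull {X Z : Scheme.{u}} (f : Z ⟶ X) {M : X.Modules} (hM : PicF.IsInvertible M) :
    PicF.IsInvertible ((Scheme.Modules.pullback f).obj M) := _root_.PicLoc.isInvertible_pullback f hM

/-- Split data: `es` become sums of lines after an injective twisted pull-back. -/
def Splits {X : Scheme.{u}} {K : Type v} [CommRing K] [LambdaRing.LambdaOps K]
    (P : LambdaRing.PosStructure K) (φ : SGA6.Kvb X →+ K) (d : ℕ) (es : List K) : Prop :=
  ∃ (X' : Scheme.{u}) (_ : IsNoetherian X') (_ : ConnectedSpace ↥X') (L' : X'.Modules) (N : ℕ)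
    (K' : Type (u + 1)) (_ : CommRing K') (_ : LambdaRing.LambdaOps K') (P' : LambdaRing.PosStructure K')
    (φ' : SGA6.Kvb X' →+ K') (g : K →+* K') (w : K'),
    KRR.IsModel X' K' P' φ' ∧ CohB1.IsAmple L' ∧
    topologicalKrullDim ↥X' ≤ ((d + N : ℕ) : WithBot ℕ∞) ∧
    (∀ (i : ℕ) (x : K), g (LambdaRing.LambdaOps.lam i x) = LambdaRing.LambdaOps.lam i (g x)) ∧
    (∀ x, P'.aug (g x) = P.aug x) ∧ (∀ e ∈ P.pos, g e ∈ P'.pos) ∧
    (∀ M : X.Modules, PicF.IsInvertible M →
      ∃ M' : X'.Modules, PicF.IsInvertible M' ∧ g (φ (KRR.cl X M)) = φ' (KRR.cl X' M')) ∧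
    w ∈ lineIdeal φ' ^ N ∧ (∀ a, g a * w = 0 → a = 0) ∧
    ∀ e ∈ es, ∃ s : List X'.Modules, (∀ M ∈ s, PicF.IsInvertible M) ∧ (s.length : ℤ) = P.aug e ∧
      g e = (s.map fun M => φ' (KRR.cl X' M)).sum

/-- Composition. -/
theorem Splits.comp {X X' : Scheme.{u}} {K : Type v} [CommRing K] [LambdaRing.LambdaOps K]
    {P : LambdaRing.PosStructure K} {φ : SGA6.Kvb X →+ K}
    {K' : Type (u + 1)} [CommRing K'] [LambdaRing.LambdaOps K'] {P' : LambdaRing.PosStructure K'}
    {φ' : SGA6.Kvb X' →+ K'} {d N : ℕ} (g : K →+* K') (w : K')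
    (hlam : ∀ (i : ℕ) (x : K), g (LambdaRing.LambdaOps.lam i x) = LambdaRing.LambdaOps.lam i (g x))
    (haug : ∀ x, P'.aug (g x) = P.aug x) (hpos : ∀ e ∈ P.pos, g e ∈ P'.pos)
    (hline : ∀ M : X.Modules, PicF.IsInvertible M →
      ∃ M' : X'.Modules, PicF.IsInvertible M' ∧ g (φ (KRR.cl X M)) = φ' (KRR.cl X' M'))
    (hw : w ∈ lineIdeal φ' ^ N) (hinj : ∀ a, g a * w = 0 → a = 0)
    {es : List K} {fs : List K'} (hfs : Splits P' φ' (d + N) fs)
    (hes : ∀ e ∈ es, ∃ (s : List X'.Modules) (fl : List K'), (∀ f ∈ fl, f ∈ fs) ∧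
      (∀ M ∈ s, PicF.IsInvertible M) ∧ g e = fl.sum + (s.map fun M => φ' (KRR.cl X' M)).sum ∧
      (fl.map fun f => P'.aug f).sum + (s.length : ℤ) = P.aug e) :
    Splits P φ d es := by
  obtain ⟨Y, i1, i2, L, N', K'', i3, i4, P'', φ'', g', w', hK'', hL, hdim, hlam', haug', hpos', hline',
    hw', hinj', hsp⟩ := hfs
  refine ⟨Y, i1, i2, L, N + N', K'', i3, i4, P'', φ'', g'.comp g, g' w * w', hK'', hL,
    by rwa [← Nat.add_assoc], fun i x => (congrArg g' (hlam i x)).trans (hlam' i _),
    fun x => (haug' _).trans (haug x), fun e he => hpos' _ (hpos e he), fun M hM => ?_, ?_, fun a ha => ?_,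
    fun e he => ?_⟩
  · obtain ⟨M', hM', h⟩ := hline M hM
    obtain ⟨M'', hM'', h'⟩ := hline' M' hM'
    exact ⟨M'', hM'', (congrArg g' h).trans h'⟩
  · rw [pow_add]
    refine Ideal.mul_mem_mul ?_ hw'
    suffices h : Ideal.map g' (lineIdeal φ' ^ N) ≤ lineIdeal φ'' ^ N from h (Ideal.mem_map_of_mem g' hw)
    rw [Ideal.map_pow]
    refine Ideal.pow_right_mono ?_ N
    rw [lineIdeal, Ideal.map_span, Ideal.span_le]
    rintro _ ⟨_, ⟨M, hM, rfl⟩, rfl⟩
    obtain ⟨M', hM', h⟩ := hline' M hM
    exact Ideal.subset_span ⟨M', hM', by rw [map_sub, map_one, h]⟩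
  · refine hinj a (hinj' _ ?_)
    rw [map_mul, mul_assoc]
    exact ha
  · obtain ⟨s, fl, hfl, hs, hge, hlen⟩ := hes e he
    have h1 : ∀ l : List X'.Modules, (∀ M ∈ l, PicF.IsInvertible M) →
        ∃ t : List Y.Modules, (∀ M ∈ t, PicF.IsInvertible M) ∧ t.length = l.length ∧
          g' (l.map fun M => φ' (KRR.cl X' M)).sum = (t.map fun M => φ'' (KRR.cl Y M)).sum := by
      intro l
      induction l with
      | nil => exact fun _ => ⟨[], by simp, rfl, by simp⟩
      | cons M l ih =>
        intro hl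
        obtain ⟨t, ht, htl, hts⟩ := ih fun M' h => hl M' (List.mem_cons.2 (Or.inr h))
        obtain ⟨M', hM', h⟩ := hline' M (hl M (List.mem_cons.2 (Or.inl rfl)))
        refine ⟨M' :: t, fun Q hQ => ?_, by simp [htl], ?_⟩
        · rcases List.mem_cons.1 hQ with rfl | hQ
          · exact hM'
          · exact ht Q hQ
        · simp only [List.map_cons, List.sum_cons, map_add, hts, h]
    have h2 : ∀ l : List K', (∀ f ∈ l, f ∈ fs) →
        ∃ t : List Y.Modules, (∀ M ∈ t, PicF.IsInvertible M) ∧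
          (t.length : ℤ) = (l.map fun f => P'.aug f).sum ∧
          g' l.sum = (t.map fun M => φ'' (KRR.cl Y M)).sum := by
      intro l
      induction l with
      | nil => exact fun _ => ⟨[], by simp, by simp, by simp⟩
      | cons f l ih =>
        intro hl
        obtain ⟨t, ht, htl, hts⟩ := ih fun M' h => hl M' (List.mem_cons.2 (Or.inr h))
        obtain ⟨t', ht', htl', hts'⟩ := hsp f (hl f (List.mem_cons.2 (Or.inl rfl)))
        refine ⟨t' ++ t, fun Q hQ => ?_, ?_, ?_⟩
        · rcases List.mem_append.1 hQ with hQ | hQ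
          · exact ht' Q hQ
          · exact ht Q hQ
        · simp only [List.length_append, Nat.cast_add, List.map_cons, List.sum_cons, htl, htl']
        · simp only [List.sum_cons, map_add, List.map_append, List.sum_append, hts, hts']
    obtain ⟨t, ht, htl, hts⟩ := h1 s hs
    obtain ⟨t', ht', htl', hts'⟩ := h2 fl hfl
    refine ⟨t' ++ t, fun Q hQ => ?_, ?_, ?_⟩
    · rcases List.mem_append.1 hQ with hQ | hQ
      · exact ht' Q hQ
      · exact ht Q hQ
    · rw [List.length_append, Nat.cast_add, htl', htl]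
      exact hlen
    · rw [RingHom.comp_apply, hge, map_add, hts, hts', List.map_append, List.sum_append]

/-- Splitting finitely many positive elements. -/
theorem exists_splits : ∀ (m : ℕ) {X : Scheme.{u}} [IsNoetherian X] [ConnectedSpace ↥X]
    {K : Type (u + 1)} [CommRing K] [LambdaRing.LambdaOps K] {P : LambdaRing.PosStructure K}
    {φ : SGA6.Kvb X →+ K}, KRR.IsModel X K P φ → ∀ (L : X.Modules), CohB1.IsAmple L → ∀ (d : ℕ),
    topologicalKrullDim ↥X ≤ (d : WithBot ℕ∞) → ∀ es : List K, (∀ e ∈ es, e ∈ P.pos) →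
    (es.map fun e => (P.aug e).toNat - 1).sum ≤ m → Splits P φ d es := by
  intro m
  induction m with
  | zero =>
    intro X _ _ K _ _ P φ hK L hL d hd es hes hm
    refine ⟨X, inferInstance, inferInstance, L, 0, K, inferInstance, inferInstance, P, φ, RingHom.id K, 1,
      hK, hL, by simpa using hd, fun _ _ => rfl, fun _ => rfl, fun _ h => h,
      fun M hM => ⟨M, hM, rfl⟩, by simp, fun a ha => by simpa using ha, fun e he => ?_⟩
    obtain ⟨n, E, hn, hE, rfl⟩ := (hK.mem_pos_iff e).1 (hes e he)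
    have h := List.single_le_sum (fun _ _ => Nat.zero_le _) _ (List.mem_map_of_mem he (f := fun e => (P.aug e).toNat - 1))
    have h1 : n = 1 := by
      have h2 : (P.aug (φ (KRR.cl X E))).toNat - 1 = 0 := Nat.eq_zero_of_le_zero (h.trans hm)
      rw [hK.aug_cl n E hE, Int.toNat_natCast] at h2
      omega
    subst h1
    refine ⟨[E], fun M hM => ?_, by rw [hK.aug_cl 1 E hE]; rfl, by simp⟩
    rw [List.mem_singleton] at hM
    exact hM ▸ TensorMod.LocFree.isInvertible_of_rank_one hE
  | succ m ih =>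
    intro X _ _ K _ _ P φ hK L hL d hd es hes hm
    by_cases hsmall : ∀ e ∈ es, P.aug e ≤ 1
    · refine ih hK L hL d hd es hes (le_trans (le_of_eq (List.sum_eq_zero fun x hx => ?_)) (Nat.zero_le _))
      obtain ⟨e, he, rfl⟩ := List.mem_map.1 hx
      have := hsmall e he
      omega
    push Not at hsmall
    obtain ⟨e₀, he₀, h₀⟩ := hsmall
    obtain ⟨n, E, hn, hE₀, rfl⟩ := (hK.mem_pos_iff e₀).1 (hes e₀ he₀)
    rw [hK.aug_cl n E hE₀] at h₀
    obtain ⟨r, rfl⟩ : ∃ r, n = r + 1 := ⟨n - 1, by omega⟩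
    have hr : 1 ≤ r := by omega
    obtain ⟨Z, π, O1, q, hP, hπ, -⟩ := Cyc.CH.BdlExists.exists_proper E (TensorMod.LocFree.of_rank hE₀)
    haveI := hπ
    haveI : IsLocallyNoetherian Z := LocallyOfFiniteType.isLocallyNoetherian π
    haveI : CompactSpace Z := QuasiCompact.compactSpace_of_compactSpace π
    haveI hZn : AlgebraicGeometry.IsNoetherian Z := ⟨⟩
    haveI hZc := PBK.Split.connectedSpace hP hE₀
    obtain ⟨K', _, _, P', φ', hK'⟩ := KVec.Model.exists_model (X := Z)
    obtain ⟨g, hg, hlam, haug, hpos⟩ := PBK.Split.exists_pullHom π hK hK'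
    obtain ⟨LZ, hLZ⟩ := AmpleEmb53.Basic.exists_isAmple π hL (PBK.isRelAmple hP hE₀)
    have hbij := PBK.Basis.comb_bijective hP hE₀ (PBK.Koszul.IsLam.of_model hK)
      (PBK.Koszul.IsLam.of_model hK') g hg
    set l := φ' (KRR.cl Z O1) with hl
    have hO1 : PicF.IsInvertible O1 := PBK.isInvertible hP
    haveI := hP.epi
    have hEf := TensorMod.LocFree.of_rank hE₀
    have hE' := TensorMod.LocFree.isFinLocFree_pullback π hEf
    have hO := TensorMod.LocFree.of_rank hP.invertible
    have hQ := KAugNil98.Main.isFinLocFree_kernel q hE' hO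
    let S := ShortComplex.mk (kernel.ι q) q (kernel.condition q)
    have hS : S.ShortExact :=
      ShortComplex.ShortExact.mk' (S.exact_of_f_is_kernel (kernelIsKernel q)) inferInstance inferInstance
    have hQr : FlatMod.IsFinLocFreeOfRank r (kernel q) := PBK.Koszul.of_rk hQ fun y => by
      have h := KVec.Model.rk_add hS hQ hE' hO y
      rw [show KVec.Model.rk S.X₂ y = r + 1 from
          KVec.Model.rk_of_rank (TensorMod.LocFree.rank_pullback π hE₀) y,
        show KVec.Model.rk S.X₃ y = 1 from KVec.Model.rk_of_rank hP.invertible y] at h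
      have h' : r + 1 = KVec.Model.rk (kernel q) y + 1 := h
      omega
    set a := φ' (KRR.cl Z (kernel q)) with ha
    have hsplit : g (φ (KRR.cl X E)) = a + l :=
      (hg E hEf).trans ((congrArg φ' (KRes.KSub.rel (P := KRR.vbP Z) hS hQ hE' hO)).trans (map_add φ' _ _))
    obtain ⟨es₁, es₂, rfl⟩ := List.append_of_mem he₀
    -- the new list
    let fs : List K' := a :: (es₁ ++ es₂).map g
    have hfs : Splits P' φ' (d + r) fs := by
      refine ih hK' LZ hLZ (d + r) (dim_bundle hP hE₀ hd) fs (fun f hf => ?_) ?_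
      · rcases List.mem_cons.1 hf with rfl | hf
        · exact (hK'.mem_pos_iff _).2 ⟨r, _, hr, hQr, rfl⟩
        · obtain ⟨e, he, rfl⟩ := List.mem_map.1 hf
          refine hpos e (hes e ?_)
          rcases List.mem_append.1 he with h | h
          · exact List.mem_append.2 (Or.inl h)
          · exact List.mem_append.2 (Or.inr (List.mem_cons.2 (Or.inr h)))
      · have he : (P.aug (φ (KRR.cl X E))).toNat = r + 1 := by rw [hK.aug_cl _ E hE₀]; simp
        have ha' : (P'.aug a).toNat = r := by rw [ha, hK'.aug_cl _ _ hQr]; simp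
        simp only [fs, List.map_cons, List.sum_cons, List.map_map, Function.comp_def, haug, ha']
        simp only [List.map_append, List.sum_append, List.map_cons, List.sum_cons, he] at hm ⊢
        omega
    have hgline : ∀ M : X.Modules, PicF.IsInvertible M →
        ∃ M' : Z.Modules, PicF.IsInvertible M' ∧ g (φ (KRR.cl X M)) = φ' (KRR.cl Z M') := fun M hM =>
      ⟨_, line_pull π hM, hg M (TensorMod.LocFree.of_rank (TensorMod.LocFree.of_isInvertible hM))⟩
    have hu : l - 1 ∈ lineIdeal φ' := Ideal.subset_span ⟨O1, hO1, rfl⟩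
    refine Splits.comp g ((l - 1) ^ r) hlam haug hpos hgline (Ideal.pow_mem_pow hu r) (fun b hb => ?_) hfs fun e he => ?_
    · have hcomb : PBK.Free.comb g r l (fun i => b * ((-1) ^ (r - (i : ℕ)) * (r.choose i : K))) = 0 := by
        refine Eq.trans ?_ hb
        show ∑ i : Fin (r + 1), g (b * ((-1) ^ (r - (i : ℕ)) * (r.choose i : K))) * l ^ (i : ℕ) =
          g b * (l - 1) ^ r
        rw [sub_eq_add_neg l 1, add_pow, Finset.mul_sum,
          Finset.sum_range (fun i => g b * (l ^ i * (-1) ^ (r - i) * (r.choose i : K')))]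
        refine Finset.sum_congr rfl fun i _ => ?_
        simp only [map_mul, map_pow, map_neg, map_one, map_natCast]
        ring
      have h := congrFun ((injective_iff_map_eq_zero _).1 hbij.1 _ hcomb) (Fin.last r)
      simpa using h
    · rcases List.mem_append.1 he with h | h
      · exact ⟨[], [g e], fun f hf => by
          rw [List.mem_singleton] at hf
          exact hf ▸ List.mem_cons.2 (Or.inr (List.mem_map_of_mem (List.mem_append.2 (Or.inl h)))),
          by simp, by simp, by simp [haug]⟩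
      · rcases List.mem_cons.1 h with rfl | h
        · refine ⟨[O1], [a], fun f hf => ?_, fun M hM => ?_, ?_, ?_⟩
          · rw [List.mem_singleton] at hf
            exact hf ▸ List.mem_cons.2 (Or.inl rfl)
          · rw [List.mem_singleton] at hM
            exact hM ▸ hO1
          · rw [hsplit]; simp [hl]
          · rw [hK.aug_cl _ E hE₀, ha]
            simp [hK'.aug_cl _ _ hQr]
        · exact ⟨[], [g e], fun f hf => by
            rw [List.mem_singleton] at hf
            exact hf ▸ List.mem_cons.2 (Or.inr (List.mem_map_of_mem (List.mem_append.2 (Or.inr h)))),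
            by simp, by simp, by simp [haug]⟩

section Gamma

variable {K : Type v} [CommRing K] [LambdaRing.LambdaOps K]

/-- All γ-operations land in the powers of an ideal. -/
def GoodI (I : Ideal K) (x : K) : Prop := ∀ m, LambdaRing.gamma m x ∈ I ^ m

theorem goodI_add {I : Ideal K} {x y : K} (hx : GoodI I x) (hy : GoodI I y) : GoodI I (x + y) := by
  intro m
  rw [Lambda.gamma_add]
  refine sum_mem fun i hi => ?_
  rw [Finset.mem_range] at hi
  have h := Ideal.mul_mem_mul (hx i) (hy (m - i))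
  rwa [← pow_add, show i + (m - i) = m by omega] at h

theorem goodI_zero (I : Ideal K) : GoodI I (0 : K) := by
  intro m
  rcases eq_or_ne m 0 with rfl | hm
  · simp
  · rw [Lambda.gamma_zero_right hm]; exact zero_mem _

theorem goodI_neg {I : Ideal K} {x : K} (hx : GoodI I x) : GoodI I (-x) := by
  intro m
  induction m using Nat.strong_induction_on with
  | _ m ih =>
    rcases m with _ | m
    · simp
    · rw [Lambda.gamma_neg]
      refine neg_mem (sum_mem fun i hi => ?_)
      rw [Finset.mem_range] at hi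
      have h := Ideal.mul_mem_mul (hx (i + 1)) (ih (m - i) (by omega))
      rwa [← pow_add, show i + 1 + (m - i) = m + 1 by omega] at h

theorem goodI_line {I : Ideal K} (h1 : Lambda.LineLike (1 : K)) {v : K}
    (hv : ∀ i, 1 < i → LambdaRing.LambdaOps.lam i v = 0) (hI : v - 1 ∈ I) : GoodI I (v - 1) := by
  intro m
  have h := Lambda.gamma_sub_natCast_of_rank h1 v 1 hv m
  rw [Nat.cast_one] at h
  rw [h]
  rcases m with _ | _ | m
  · simp
  · rw [pow_one]
    simpa [Finset.sum_range_succ, LambdaRing.LambdaOps.lam_zero, LambdaRing.LambdaOps.lam_one,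
      add_comm, sub_eq_add_neg] using hI
  · simp [Finset.sum_range_succ, Nat.choose_eq_zero_of_lt]

end Gamma

/-- `F^(d+1) K(X) = 0`, for models in a fixed universe. -/
theorem gammaFiltration_eq_bot {X : Scheme.{u}} [IsNoetherian X] [ConnectedSpace ↥X] {L : X.Modules}
    (hL : CohB1.IsAmple L) {d : ℕ} (hd : topologicalKrullDim ↥X ≤ (d : WithBot ℕ∞))
    {K : Type (u + 1)} [CommRing K] [LambdaRing.LambdaOps K] {P : LambdaRing.PosStructure K}
    {φ : SGA6.Kvb X →+ K} (hK : KRR.IsModel X K P φ) :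
    LambdaRing.gammaFiltration P (d + 1) = ⊥ := by
  refine eq_bot_iff.2 (Lambda.gammaFiltration_le (Nat.succ_ne_zero d) fun l hl hs => ?_)
  rw [AddSubgroup.mem_bot]
  choose ef ff hef hff hdiff using P.exists_sub
  let es : List K := l.flatMap fun p => [ef p.2, ff p.2]
  obtain ⟨X', _, _, L', N, K', _, _, P', φ', g, w, hK', hL', hdim, hlam, haug, -, -, hw, hinj, hsp⟩ :=
    exists_splits _ hK L hL d hd es (fun e he => by
      obtain ⟨p, -, hp⟩ := List.mem_flatMap.1 he
      rcases List.mem_cons.1 hp with rfl | hp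
      · exact hef _
      · rw [List.mem_singleton] at hp
        exact hp ▸ hff _) le_rfl
  have hgam : ∀ n x, g (LambdaRing.gamma n x) = LambdaRing.gamma n (g x) := fun n x => by
    unfold LambdaRing.gamma
    split_ifs
    · exact map_one g
    · rw [map_sum]
      refine Finset.sum_congr rfl fun j _ => ?_
      rw [map_mul, map_natCast]
      split_ifs <;> simp [hlam]
  have hline : ∀ s : List X'.Modules, (∀ M ∈ s, PicF.IsInvertible M) →
      GoodI (lineIdeal φ') ((s.map fun M => φ' (KRR.cl X' M)).sum - (s.length : K')) := by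
    intro s
    induction s with
    | nil => exact fun _ => by simpa using goodI_zero _
    | cons M s ih =>
      intro hs
      have hM := hs M (List.mem_cons.2 (Or.inl rfl))
      have h := goodI_add (goodI_line (I := lineIdeal φ') (Lambda.lineLike_one_of_pos P')
        (lam_eq_zero_of_rank (PBK.Koszul.IsLam.of_model hK') (TensorMod.LocFree.of_isInvertible hM))
        (Ideal.subset_span ⟨M, hM, rfl⟩ : φ' (KRR.cl X' M) - 1 ∈ lineIdeal φ'))
        (ih fun M' h => hs M' (List.mem_cons.2 (Or.inr h)))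
      simp only [List.map_cons, List.sum_cons, List.length_cons, Nat.cast_succ]
      rw [show φ' (KRR.cl X' M) + (s.map fun M => φ' (KRR.cl X' M)).sum - ((s.length : K') + 1) =
        φ' (KRR.cl X' M) - 1 + ((s.map fun M => φ' (KRR.cl X' M)).sum - (s.length : K')) by ring]
      exact h
  have hgood : ∀ p ∈ l, GoodI (lineIdeal φ') (g p.2) := by
    intro p hp
    obtain ⟨s, hs, hsl, hse⟩ := hsp (ef p.2) (List.mem_flatMap.2 ⟨p, hp, by simp⟩)
    obtain ⟨t, ht, htl, hte⟩ := hsp (ff p.2) (List.mem_flatMap.2 ⟨p, hp, by simp⟩)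
    have h0 := hl p hp
    rw [hdiff p.2, map_sub, sub_eq_zero, ← hsl, ← htl] at h0
    have h0' : s.length = t.length := by exact_mod_cast h0
    rw [hdiff p.2, map_sub, hse, hte]
    have := goodI_add (hline s hs) (goodI_neg (hline t ht))
    rw [h0'] at this
    convert this using 1
    ring
  have hmem : ∀ l' : List (ℕ × K), (∀ p ∈ l', GoodI (lineIdeal φ') (g p.2)) →
      g (l'.map fun p => LambdaRing.gamma p.1 p.2).prod ∈ lineIdeal φ' ^ (l'.map Prod.fst).sum := by
    intro l'
    induction l' with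
    | nil => simp
    | cons p l' ih =>
      intro h
      simp only [List.map_cons, List.prod_cons, List.sum_cons, map_mul, hgam, pow_add]
      exact Ideal.mul_mem_mul (h p (List.mem_cons.2 (Or.inl rfl)) p.1)
        (ih fun q hq => h q (List.mem_cons.2 (Or.inr hq)))
  refine hinj _ ?_
  have h := Ideal.mul_mem_mul (hmem l hgood) hw
  rw [← pow_add] at h
  have hbot := lineIdeal_pow_eq_bot (PBK.Koszul.IsLam.of_model hK') hL' hdim
  have h' := Ideal.pow_le_pow_right (show d + N + 1 ≤ (l.map Prod.fst).sum + N by omega) h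
  rwa [hbot, Submodule.mem_bot] at h'

/-- `F^(d+1) K(X) = 0`. -/
theorem gammaFiltration_eq_bot' {X : Scheme.{u}} [IsNoetherian X] [ConnectedSpace ↥X] {L : X.Modules}
    (hL : CohB1.IsAmple L) {d : ℕ} (hd : topologicalKrullDim ↥X ≤ (d : WithBot ℕ∞))
    {K : Type v} [CommRing K] [LambdaRing.LambdaOps K] {P : LambdaRing.PosStructure K}
    {φ : SGA6.Kvb X →+ K} (hK : KRR.IsModel X K P φ) :
    LambdaRing.gammaFiltration P (d + 1) = ⊥ := by
  obtain ⟨K₀, _, _, P₀, φ₀, hK₀⟩ := KVec.Model.exists_model (X := X)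
  obtain ⟨θ, hθ, hlam, haug, -⟩ := PBK.Split.exists_pullHom (𝟙 X) hK hK₀
  have hinj : Function.Injective θ := by
    have h : θ.toAddMonoidHom.comp φ = φ₀ := KRes.KSub.hom_ext fun G hG =>
      (hθ G hG).trans (congrArg φ₀ (KAugNil98.Main.cl_iso ((Scheme.Modules.pullbackId X).app G)
        (TensorMod.LocFree.isFinLocFree_pullback _ hG)))
    refine (injective_iff_map_eq_zero θ).2 fun a ha => ?_
    obtain ⟨z, rfl⟩ := hK.bijective.2 a
    have hz : φ₀ z = 0 := (DFunLike.congr_fun h z).symm.trans ha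
    rw [hK₀.bijective.1 (hz.trans (map_zero φ₀).symm), map_zero]
  refine eq_bot_iff.2 fun x hx => ?_
  have h := Tower.le_comap θ hlam haug (d + 1) hx
  rw [gammaFiltration_eq_bot hL hd hK₀, AddSubgroup.mem_comap, AddSubgroup.mem_bot] at h
  exact (AddSubgroup.mem_bot).2 (hinj (h.trans (map_zero θ).symm))

end Groth.Agent.Lib.ExchangeFP29.Nil
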